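import Groth.Agent.CurvSt.K903.HilbLink
import Groth.Agent.NonPure.K981.HilbSub
import Groth.Agent.ShStab.K847.HilbBasic
import Groth.Agent.Ega3B.ProjFrame
import Groth.Agent.Ega3B.PullTensor
import Groth.Agent.S1529
import Groth.Agent.VarietyA.AmpleField
import Groth.Agent.CohqB.AmpGeneric
import Groth.Agent.Fga.PicMon

/-!
# Closed subschemes of projective space with constant Hilbert polynomial (Neron, node H of S15952)

`chiO_iff`: a closed subscheme of `P^n_k` has eventually constant Hilbert function `d` iff it is finite of degree `d`.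
-/

set_option autoImplicit false

universe u

open CategoryTheory CategoryTheory.Limits AlgebraicGeometry Opposite TopologicalSpace

namespace Groth.Agent.Neron.K678.HilbA

open Groth.Agent Groth.Agent.Fga Groth.Agent.Fga.QTDefs Groth.Agent.Fga.QT4b Groth.Agent.Fga.PicMon K277.ChiHilb
  K903.HilbLink

theorem mem_support_unit {X : Scheme.{u}} (x : X) : x ∈ CohB1.support (Coh.structureModule X) := by
  intro hsub
  have h1 : (Coh.structureModule X).presheaf.germ ⊤ x (Opens.mem_top _) (Fdesc.LocGen.one ⊤) = 0 := Subsingleton.elim _ _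
  obtain ⟨V, hVU, hxV, hV⟩ := VarietyB.ExactLoc.exists_res_eq_zero (Coh.structureModule X) (Opens.mem_top _) _ h1
  have h2 : Fdesc.LocGen.one (X := X) V = 0 := by
    rw [← Fdesc.LocGen.res_one hVU]
    exact hV
  have h5 : (1 : Γ(X, V)) = 0 := by
    apply (Fdesc.LocGen.isGen_one V).ext
    rw [h2, smul_zero, smul_zero]
  have : Nonempty V := ⟨⟨x, hxV⟩⟩
  exact one_ne_zero h5

theorem discrete_of_isFinite {K : Type u} [Field K] {W : Scheme.{u}} (c : W ⟶ Spec (CommRingCat.of K)) [IsFinite c] :
    DiscreteTopology W := by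
  let s : ↥(Spec (CommRingCat.of K)) := (⊥ : PrimeSpectrum K)
  have h1 : _root_.IsDiscrete (c ⁻¹' {s}) := c.isDiscrete_preimage_singleton s
  have h2 : c ⁻¹' {s} = Set.univ := by
    ext x
    simp only [Set.mem_preimage, Set.mem_univ, iff_true]
    exact Subsingleton.elim (α := PrimeSpectrum K) _ _
  rw [h2] at h1
  exact isDiscrete_univ_iff.1 h1

section

variable {n : ℕ} {k : Type u} [Field k] {Z : Scheme.{u}} [Z.Over (Spec (CommRingCat.of k))] (g : Z ⟶ PZ n)

theorem nonempty_twist (G : Z.Modules) (m : ℕ) :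
    Nonempty (ShStab.twist Z ((Scheme.Modules.pullback g).obj (Twist.twistProjSpace n (ULift.{u} ℤ) 1)) G m ≅
      twg g G (m : ℤ)) := by
  obtain ⟨e1⟩ := Ega3B.ProjFrame.nonempty_twistProjSpace_iso (r := n) (ULift.{u} ℤ) m
  obtain ⟨e2⟩ := Ega3B.PullTensor.nonempty_pullPowIso g
    (FormalB.TwistGen.isInvertible_twistProjSpace n (ULift.{u} ℤ) 1) m
  rw [← mc_eq_iff]
  unfold ShStab.twist twg
  rw [mc_tensor, mc_tensor, ← mc_eq e2,
    ← mc_eq ((Scheme.Modules.pullback g).mapIso e1)]

/-- The Hilbert polynomial in terms of `chiO`. -/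
theorem isHilbPoly_iff (P : Polynomial ℚ) :
    ShStab.IsHilbPoly k Z ((Scheme.Modules.pullback g).obj (Twist.twistProjSpace n (ULift.{u} ℤ) 1))
      (Coh.structureModule Z) P ↔
      ∀ m : ℕ, (chiO g (Z ↘ Spec (CommRingCat.of k)) (m : ℤ) : ℚ) = P.eval (m : ℚ) := by
  have key : ∀ m : ℕ, Curv2.euler k Z (ShStab.twist Z
      ((Scheme.Modules.pullback g).obj (Twist.twistProjSpace n (ULift.{u} ℤ) 1)) (Coh.structureModule Z) m) =
      chiO g (Z ↘ Spec (CommRingCat.of k)) (m : ℤ) := fun m =>
    K847.HilbBasic.euler_congr k ((nonempty_twist g (Coh.structureModule Z) m).some ≪≫ twgIso g (m : ℤ))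
  unfold ShStab.IsHilbPoly
  simp only [key]

variable [IsClosedImmersion (toPA g (Z ↘ Spec (CommRingCat.of k)))]

include k in
theorem isAmple_gO : CohB1.IsAmple ((Scheme.Modules.pullback g).obj (Twist.twistProjSpace n (ULift.{u} ℤ) 1)) :=
  CohqB.AmpCocycle.isAmple_of_iso (embTwist k g 1)
    (CohqB.AmpCocycle.isAmple_pullback (emb k g) (VarietyA.AmpleField.isAmple_twistProjSpace n k))

include g in
theorem isProper_str : IsProper (Z ↘ Spec (CommRingCat.of k)) := by
  rw [← emb_toSpec k g]
  infer_instance

/-- The Hilbert polynomial of a finite scheme. -/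
theorem isHilbPoly_of_finite {e : ℕ} (h : Mor2.IsFinLocFreeOfDeg e (Z ↘ Spec (CommRingCat.of k))) :
    ShStab.IsHilbPoly k Z ((Scheme.Modules.pullback g).obj (Twist.twistProjSpace n (ULift.{u} ℤ) 1))
      (Coh.structureModule Z) (Polynomial.C (e : ℚ)) := by
  have hp := isProper_str (k := k) g
  have hN : IsLocallyNoetherian Z := LocallyOfFiniteType.isLocallyNoetherian (Z ↘ Spec (CommRingCat.of k))
  have hO : Coh.IsCoh (Coh.structureModule Z) := Fdesc.StructMod.isCoh_structureModule _
  have hfin : IsFinite (Z ↘ Spec (CommRingCat.of k)) := h.1.1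
  have hd := discrete_of_isFinite (Z ↘ Spec (CommRingCat.of k))
  have hs : topologicalKrullDim (CohB1.support (Coh.structureModule Z)) ≤ 0 :=
    topologicalKrullDim_zero_of_discreteTopology _
  have h1 := K981.HilbSub.hilb_of_support k Z (isAmple_gO (k := k) g).1 hO hs
  rw [K981.HilbSub.euler_finite k Z h, Int.cast_natCast] at h1
  exact h1

end

/-- **A closed subscheme of projective space over a field has eventually constant Hilbert function `d` iff it is
finite of degree `d`.** -/
theorem chiO_iff {n : ℕ} {k : Type u} [Field k] {Z : Scheme.{u}} (g : Z ⟶ PZ n) (q : Z ⟶ Spec (CommRingCat.of k))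
    [hcl : IsClosedImmersion (toPA g q)] (d : ℕ) :
    (∃ D : ℕ, ∀ m : ℕ, D ≤ m → chiO g q (m : ℤ) = d) ↔ Mor2.IsFinLocFreeOfDeg d q := by
  let _ : Z.Over (Spec (CommRingCat.of k)) := ⟨q⟩
  have hcl' : IsClosedImmersion (toPA g (Z ↘ Spec (CommRingCat.of k))) := hcl
  have hp : IsProper (Z ↘ Spec (CommRingCat.of k)) := isProper_str g
  have hN : IsLocallyNoetherian Z := LocallyOfFiniteType.isLocallyNoetherian (Z ↘ Spec (CommRingCat.of k))
  have hO : Coh.IsCoh (Coh.structureModule Z) := Fdesc.StructMod.isCoh_structureModule _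
  have hL := isAmple_gO (k := k) g
  constructor
  · rintro ⟨D, hD⟩
    obtain ⟨P, hP⟩ := K847.HilbBasic.exists_hilbPoly k hL.1 hO
    have hP1 := (isHilbPoly_iff (k := k) g P).1 hP
    have hPC : P = Polynomial.C (d : ℚ) := by
      apply Polynomial.eq_of_infinite_eval_eq
      refine Set.infinite_of_injective_forall_mem (f := fun m : ℕ => ((m + D : ℕ) : ℚ)) ?_ ?_
      · intro a b hab
        have : ((a + D : ℕ) : ℚ) = ((b + D : ℕ) : ℚ) := hab
        have := Nat.cast_injective this
        omega
      · intro m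
        change Polynomial.eval ((m + D : ℕ) : ℚ) P = Polynomial.eval ((m + D : ℕ) : ℚ) (Polynomial.C (d : ℚ))
        have h1 := hD (m + D) (by omega)
        have h2 := hP1 (m + D)
        rw [Polynomial.eval_C, ← h2]
        exact_mod_cast h1
    subst hPC
    have hdim : topologicalKrullDim Z ≤ 0 := by
      by_cases h0 : IsZero (Coh.structureModule Z)
      · have hE : IsEmpty (IrreducibleCloseds Z) := ⟨fun V => by
          obtain ⟨z, -⟩ := V.isIrreducible.nonempty
          have h1 := mem_support_unit z
          rw [CohqB.DevSupport.support_eq_empty_of_isZero h0] at h1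
          exact h1⟩
        have h1 : topologicalKrullDim Z = ⊥ := by
          rw [topologicalKrullDim, Order.krullDim_eq_bot]
        rw [h1]
        exact bot_le
      · obtain ⟨e, he⟩ := K847.HilbBasic.exists_dim_support_eq k h0
        have h1 := K847.HilbBasic.natDegree_eq k hL hO he hP
        rw [Polynomial.natDegree_C] at h1
        subst h1
        have h2 : Topology.IsInducing (fun z : Z => (⟨z, mem_support_unit z⟩ : CohB1.support (Coh.structureModule Z))) :=
          Topology.IsInducing.of_comp (g := Subtype.val) (continuous_id.subtype_mk _) continuous_subtype_val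
            Topology.IsInducing.id
        exact (h2.topologicalKrullDim_le).trans he.le
    have h3 := S1529.result k Z hdim
    have hfin : IsFinite q := h3.2
    have hfp : LocallyOfFinitePresentation q :=
      LocallyOfFinitePresentation.iff_locallyOfFiniteType.2 inferInstance
    obtain ⟨y₀⟩ : Nonempty (Spec (CommRingCat.of k)) := inferInstance
    have hdeg : Mor2.IsFinLocFreeOfDeg (q.finrank y₀) q := ⟨⟨hfin, inferInstance, hfp⟩, fun y => by
      rw [Subsingleton.elim (α := PrimeSpectrum k) y y₀]⟩
    have h6 := isHilbPoly_of_finite (k := k) g hdeg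
    have h7 := Polynomial.C_injective (K847.HilbBasic.hilbPoly_unique k hP h6)
    have h8 : q.finrank y₀ = d := by exact_mod_cast h7.symm
    rw [← h8]
    exact hdeg
  · intro h
    have h1 := (isHilbPoly_iff (k := k) g _).1 (isHilbPoly_of_finite g h)
    refine ⟨0, fun m _ => ?_⟩
    have h2 := h1 m
    rw [Polynomial.eval_C] at h2
    exact_mod_cast h2

end Groth.Agent.Neron.K678.HilbA
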