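import Groth.Agent.Neron.K531.Defs
import Groth.Agent.Neron.K678.HilbA
import Groth.Agent.AutSch.K936.HilbK3
import Groth.Agent.Fga.RepQMain
import Groth.Agent.Picfga.HilbZar
import Mathlib.AlgebraicGeometry.ZariskisMainTheorem

/-!
# The Hilbert scheme of points of a projective scheme, in ideal sheaf form (Neron, node H of S15952)

`exists_hilb`: for `X ⟶ B` closed in `P^n_B`, `B` noetherian, `Hilb^d_{X/B}` is represented on locally noetherian
`B`-schemes by a closed subscheme of some `P^N_B`.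
-/

set_option autoImplicit false

universe u

open CategoryTheory CategoryTheory.Limits AlgebraicGeometry Opposite

namespace Groth.Agent.Neron.K678.Hilb

open Groth.Agent.Fga Groth.Agent.Fga.HilbAsm2 Groth.Agent.Fga.HilbAsm1 Groth.Agent.Fga.HilbFun Groth.Agent.Fga.QA1
  Groth.Agent.Fga.NoethRep K531.Defs

section Closed

open Groth.Agent.Fga.HilbClosed Groth.Agent.Fga.QD1Sch Groth.Agent.Fga.QD1Hilb Groth.Agent.CohqB.ProjBC
  Groth.Agent.Fga.QD1Alg Groth.Agent.Fga.QTDefs Groth.Agent.Fga.QT4b CohB1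

theorem isClosedImmersion_toPA {n : ℕ} {k : Type u} [Field k] {S W : Scheme.{u}} (i : W ⟶ ProjSpaceOver n S)
    [IsClosedImmersion i] (s : Spec (CommRingCat.of k) ⟶ S) (x : FGA.HilbSet (fX i) (Over.mk s)) :
    IsClosedImmersion (toPA (x.1.subschemeι ≫ pullback.fst (fX i) s ≫ i ≫ fstZ n S)
      (x.1.subschemeι ≫ PicF.XTproj (fX i) (Over.mk s))) := by
  let c := cT i (ProjSpaceOver.toBase n S) (Over.mk s)
  let c' : x.1.subscheme ⟶ ProjSpace n k := x.1.subschemeι ≫ c ≫ (xt n s).inv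
  have h := K936.HilbK3.toPA_eq c'
  have hg : pmap (zHom k) n = (xt n s).hom ≫ pullback.fst (ProjSpaceOver.toBase n S) (Over.mk s).hom ≫ fstZ n S := by
    rw [← Category.assoc, xt_hom_fst, Category.assoc, overMap_fstZ]
    exact (QD1Hilb.projSpaceOverIso_inv_fstZ k).symm
  have hq : ProjSpace.toSpec n k = (xt n s).hom ≫ PicF.XTproj (ProjSpaceOver.toBase n S) (Over.mk s) :=
    (xt_hom_proj s).symm
  have h3 : c ≫ pullback.fst (ProjSpaceOver.toBase n S) (Over.mk s).hom = pullback.fst (fX i) (Over.mk s).hom ≫ i :=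
    cT_fst i (ProjSpaceOver.toBase n S) (Over.mk s)
  have e1 : c' ≫ pmap (zHom k) n = x.1.subschemeι ≫ pullback.fst (fX i) s ≫ i ≫ fstZ n S := by
    rw [hg]
    calc (x.1.subschemeι ≫ c ≫ (xt n s).inv) ≫ (xt n s).hom ≫
          pullback.fst (ProjSpaceOver.toBase n S) (Over.mk s).hom ≫ fstZ n S
        = x.1.subschemeι ≫ (c ≫ pullback.fst (ProjSpaceOver.toBase n S) (Over.mk s).hom) ≫ fstZ n S := by
          simp only [Category.assoc, Iso.inv_hom_id_assoc]
      _ = _ := by
          rw [h3]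
          simp only [Category.assoc]
          rfl
  have e2 : c' ≫ ProjSpace.toSpec n k = x.1.subschemeι ≫ PicF.XTproj (fX i) (Over.mk s) := by
    rw [hq]
    calc (x.1.subschemeι ≫ c ≫ (xt n s).inv) ≫ (xt n s).hom ≫ PicF.XTproj (ProjSpaceOver.toBase n S) (Over.mk s)
        = x.1.subschemeι ≫ (c ≫ PicF.XTproj (ProjSpaceOver.toBase n S) (Over.mk s)) := by
          simp only [Category.assoc, Iso.inv_hom_id_assoc]
      _ = _ := by
          rw [cT_proj]
  rw [← e1, ← e2, h]
  have : IsClosedImmersion c' := inferInstance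
  infer_instance

end Closed

theorem num_const (c : ℕ) (a : ℤ) : Num (c + 1) (fun _ => a) := by
  change Num c (nab fun _ => a)
  have : nab (fun _ : ℤ => a) = fun _ => 0 := by
    funext d
    simp [nab]
  rw [this]
  exact Num.zero c

/-- A proper flat morphism to a locally noetherian scheme is finite locally free of degree `d` if its fibres are. -/
theorem isFinLocFreeOfDeg_of_fibres {W T : Scheme.{u}} [IsLocallyNoetherian T] (w : W ⟶ T) [IsProper w] [Flat w] (d : ℕ)
    (h : ∀ t : T, Mor2.IsFinLocFreeOfDeg d (pullback.snd w (T.fromSpecResidueField t))) :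
    Mor2.IsFinLocFreeOfDeg d w := by
  have h1 : LocallyQuasiFinite w := locallyQuasiFinite_iff_isFinite_fiber.2 fun t => (h t).1.1
  have h2 : IsFinite w := IsFinite.of_isProper_of_locallyQuasiFinite w
  have h3 : LocallyOfFinitePresentation w := LocallyOfFinitePresentation.iff_locallyOfFiniteType.2 inferInstance
  refine ⟨⟨h2, inferInstance, h3⟩, fun t => ?_⟩
  obtain ⟨y⟩ : Nonempty (Spec (T.residueField t)) := inferInstance
  have h4 := (h t).2 y
  rw [Scheme.Hom.finrank_pullback_snd] at h4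
  have h5 : T.fromSpecResidueField t y = t := by
    have : T.fromSpecResidueField t y ∈ Set.range (T.fromSpecResidueField t) := ⟨y, rfl⟩
    rw [Scheme.range_fromSpecResidueField] at this
    exact this
  rw [h5] at h4
  exact h4

section Main

variable {n : ℕ} {S X : Scheme.{u}} (i : X ⟶ CohB1.ProjSpaceOver n S) [IsClosedImmersion i]

theorem fieldLemma (d : ℕ) (K : Type u) [Field K] (s : Spec (CommRingCat.of K) ⟶ S)
    (x : (hilb (fX i)).obj (op (Over.mk s))) :
    QX i (fun _ => (d : ℤ)) K s x ↔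
      Mor2.IsFinLocFreeOfDeg d ((idl _ x).subschemeι ≫ PicF.XTproj (fX i) (Over.mk s)) := by
  have hcl : IsClosedImmersion (QT4b.toPA ((idl _ x).subschemeι ≫ pullback.fst (fX i) s ≫ i ≫ CohqB.ProjBC.fstZ n S)
      ((idl _ x).subschemeι ≫ PicF.XTproj (fX i) (Over.mk s))) := isClosedImmersion_toPA i s x
  rw [← HilbA.chiO_iff ((idl _ x).subschemeι ≫ pullback.fst (fX i) s ≫ i ≫ CohqB.ProjBC.fstZ n S)
    ((idl _ x).subschemeι ≫ PicF.XTproj (fX i) (Over.mk s)) d]
  obtain ⟨D, hD⟩ := K903.HilbLink.exists_KX_eq_chiO i s x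
  constructor
  · rintro ⟨E, hE⟩
    exact ⟨max D E, fun m hm => (hD m ((le_max_left _ _).trans hm)).symm.trans (hE m ((le_max_right _ _).trans hm))⟩
  · rintro ⟨E, hE⟩
    exact ⟨max D E, fun m hm => (hD m ((le_max_left _ _).trans hm)).trans (hE m ((le_max_right _ _).trans hm))⟩

/-- The part of the Hilbert functor with constant Hilbert polynomial `d` is `Hilb^d`. -/
theorem fib_iff (d : ℕ) (T : Over S) [IsLocallyNoetherian T.left] (x : (hilb (fX i)).obj (op T)) :
    Fib (QX i (fun _ => (d : ℤ))) T x ↔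
      Mor2.IsFinLocFreeOfDeg d ((idl _ x).subschemeι ≫ PicF.XTproj (fX i) T) := by
  constructor
  · intro h
    have h1 : IsProper ((idl _ x).subschemeι ≫ PicF.XTproj (fX i) T) := (idl_prop _ x).1
    have h2 : Flat ((idl _ x).subschemeι ≫ PicF.XTproj (fX i) T) := (idl_prop _ x).2
    refine isFinLocFreeOfDeg_of_fibres _ d fun t => ?_
    let s : Spec (CommRingCat.of (T.left.residueField t)) ⟶ S := T.left.fromSpecResidueField t ≫ T.hom
    let g : Over.mk s ⟶ T := Over.homMk (T.left.fromSpecResidueField t) rfl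
    have h3 := (fieldLemma i d (T.left.residueField t) s _).1 (h (T.left.residueField t) s g)
    rw [idl_map] at h3
    obtain ⟨m, hm⟩ := Picfga.HilbPull.isPullback_pull_base (fX i) g (idl _ x)
    have h4 : hm.isoPullback.inv ≫ ((HilbD.pull (fX i) g (idl _ x)).subschemeι ≫ PicF.XTproj (fX i) (Over.mk s)) =
        pullback.snd ((idl _ x).subschemeι ≫ PicF.XTproj (fX i) T) (T.left.fromSpecResidueField t) :=
      hm.isoPullback_inv_snd
    rw [← h4]
    exact Picfga.HilbPull.isFinLocFreeOfDeg_comp_iso h3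
  · intro h K _ s g
    rw [fieldLemma, idl_map]
    exact Picfga.HilbPull.isFinLocFreeOfDeg_pull (fX i) g h

/-- **The Hilbert scheme of points of a projective scheme.** -/
theorem exists_hilb {B X : Scheme.{u}} [IsNoetherian B] (f : X ⟶ B) {n : ℕ} (i : X ⟶ CohB1.ProjSpaceOver n B)
    [IsClosedImmersion i] (hi : i ≫ CohB1.ProjSpaceOver.toBase n B = f) (d : ℕ) :
    ∃ (Z : Over B) (D : HilbD.Obj f d Z) (N : ℕ) (c : Z.left ⟶ CohB1.ProjSpaceOver N B),
      IsClosedImmersion c ∧ c ≫ CohB1.ProjSpaceOver.toBase N B = Z.hom ∧ UnivLN f d Z D := by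
  subst hi
  have hΦ : Num (n + 1) (fun _ => (d : ℤ)) := num_const n d
  obtain ⟨P, r, N, c, hc⟩ := RepQMain.exists_repQ.{u} (Fin (n + 1)) Unit (fun _ => (d : ℤ))
    (by rwa [Fintype.card_fin])
  obtain ⟨H, ξ, c', hr, hc', hc''⟩ := exists_nrep_X i hΦ r c
  have hN : IsLocallyNoetherian H.left := hr.noeth
  refine ⟨H, ⟨idl _ ξ.1, (fib_iff i d H ξ.1).1 ξ.2⟩, N, c', hc', hc'', fun T _ E => ?_⟩
  have hE : IsProper (E.1.subschemeι ≫ PicF.XTproj (fX i) T) ∧ Flat (E.1.subschemeι ≫ PicF.XTproj (fX i) T) := by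
    have h1 : IsFinite (E.1.subschemeι ≫ PicF.XTproj (fX i) T) := E.2.1.1
    exact ⟨inferInstance, E.2.1.2.1⟩
  let x : (hilb (fX i)).obj (op T) := toH _ ⟨E.1, hE⟩
  have hx : Fib (QX i (fun _ => (d : ℤ))) T x := (fib_iff i d T x).2 E.2
  obtain ⟨h, hh, hu⟩ := hr.univ T ⟨x, hx⟩
  refine ⟨h, congrArg (fun z => idl _ (Subtype.val z)) hh, fun h' e => hu h' (Subtype.ext (idl_injective _ e))⟩

end Main

end Groth.Agent.Neron.K678.Hilb
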